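import Groth.Agent.Lib.HilbDesc10.Closed
import Groth.Agent.Lib.RelVanish.Basic
import Groth.Agent.Lib.BCCrit.Degree0
import Groth.Agent.Lib.BCCrit.DimBound

/-!
# Pushforwards of high twists of flat modules
-/

set_option autoImplicit false
set_option linter.all false
set_option backward.isDefEq.respectTransparency false
set_option maxHeartbeats 1000000

universe u

open CategoryTheory Limits AlgebraicGeometry Opposite TopologicalSpace

noncomputable section

namespace GrothLib.HilbDesc10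

theorem isFinLocFree_congr {Y : Scheme.{u}} {M N : Y.Modules} (e : M ≅ N) (h : FlatMod.IsFinLocFree M) :
    FlatMod.IsFinLocFree N := fun x =>
  have ⟨U, n, hx, ⟨i⟩⟩ := h x
  ⟨U, n, hx, ⟨((Scheme.Modules.restrictFunctor U.ι).mapIso e).symm ≪≫ i⟩⟩

section Noeth

variable {R : Type u} [CommRing R] [IsNoetherianRing R] {X : Scheme.{u}}

/-- High twists of a flat module are good in degree zero at every point. -/
theorem exists_goodAll_twists (f : X ⟶ Spec (CommRingCat.of R)) [IsProper f] {L : X.Modules}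
    (hL : CohB1.IsAmple L) {G : X.Modules} (hG : Coh.IsCoh G) (hfl : FlatMod.IsFlatOver f G) :
    ∃ Q : ℕ, ∀ q, Q ≤ q → CohB1.IsFP (CohB1.tensorMod G (CohB1.tensorPow L q)) ∧
      FlatMod.IsFlatOver f (CohB1.tensorMod G (CohB1.tensorPow L q)) ∧
      ∀ s, BCCrit.GoodAll f (CohB1.tensorMod G (CohB1.tensorPow L q)) ((0 : ℕ) : ℤ) s := by
  haveI : IsLocallyNoetherian X := LocallyOfFiniteType.isLocallyNoetherian f
  haveI := hG.1
  haveI : EnoughInjectives X.Modules := SheafCoh.enoughInjectives_sheafOfModules X.ringCatSheaf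
  have hGfp : CohB1.IsFP G := QCoh.isFinitePresentation_of_isFiniteType G hG.2
  have hA : IsAffineOpen (⊤ : (Spec (CommRingCat.of R)).Opens) := isAffineOpen_top _
  obtain ⟨Q, hQ⟩ := RelVanish.exists_forall_subsingleton_preimage f hL.1 hA
    ((Ample.isAmple_restrict_top_iff L (f.preimage_top)).mpr hL) hG
  obtain ⟨d, hd⟩ := EulerConst10.exists_dim_fiber_le_on f hA
  refine ⟨Q, fun q hq => ?_⟩
  let M := CohB1.tensorMod G (CohB1.tensorPow L q)
  have hM : CohB1.IsFP M :=
    EulerConst10.isFP_tensorPows hGfp (t := 1) (fun _ => L) (fun _ => hL.1) (fun _ => q)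
  haveI : M.IsQuasicoherent := SemiPrufer.qcoh_of_isFP hM
  have hMfl : FlatMod.IsFlatOver f M :=
    EulerConst10.isFlatOver_tF f (Ample.isInvertible_tensorPow hL.1 q) hfl
  refine ⟨hM, hMfl, fun s => ?_⟩
  suffices ∀ (k p : ℕ), d + 1 ≤ p + k → BCCrit.GoodAll f M (p : ℤ) s from this (d + 1) 0 (by omega)
  intro k
  induction k with
  | zero =>
    intro p hp
    exact (BCCrit.goodAll_of_fiberRank_eq_zero p s
      (BCCrit.fiberRank_eq_zero_of_dim_lt s d p (hd s trivial) (by omega))).1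
  | succ k ih =>
    intro p hp
    have h2 := ih (p + 1) (by omega)
    have hz : IsZero ((Coh.Rpush f (p + 1)).obj M) :=
      RelVanish.isZero_Rpush_of_cover f M (p + 1) (fun _ : Unit => (⊤ : (Spec (CommRingCat.of R)).Opens))
        (fun _ => hA) (fun _ => ⟨(), trivial⟩) (fun _ => hQ q hq (p + 1) (by omega))
    have h1 := BCCrit.goodAll_pred_of_free (p + 1) h2 (U := ⊤) (n := 0) trivial
      (((Scheme.Modules.restrictFunctor (⊤ : (Spec (CommRingCat.of R)).Opens).ι).map_isZero hz).iso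
        (Euler.isZero_freeMod_zero _))
    rwa [show ((p + 1 : ℕ) : ℤ) - 1 = (p : ℤ) by push_cast; ring] at h1

end Noeth

/-- High twists of a flat module over an affine base push forward to bundles. -/
theorem exists_isFinLocFree_push_affine {A : Type u} [CommRing A] {X : Scheme.{u}}
    (f : X ⟶ Spec (CommRingCat.of A)) [IsProper f] [LocallyOfFinitePresentation f] {L : X.Modules}
    (hL : CohB1.IsAmple L) {F : X.Modules} (hF : CohB1.IsFP F) (hfl : FlatMod.IsFlatOver f F) :
    ∃ N : ℕ, ∀ n, N ≤ n →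
      FlatMod.IsFinLocFree ((Scheme.Modules.pushforward f).obj (CohB1.tensorMod F (CohB1.tensorPow L n))) := by
  obtain ⟨d, n, ι, hι, hd, hif, ⟨eι⟩⟩ := exists_embedding f hL
  have hFr : ∀ r : ℕ, CohB1.IsFP (CohB1.tensorMod F (CohB1.tensorPow L r)) := fun r =>
    EulerConst10.isFP_tensorPows hF (t := 1) (fun _ => L) (fun _ => hL.1) (fun _ => r)
  have hr : ∀ r : Fin d, ∃ Q : ℕ, ∀ q, Q ≤ q → FlatMod.IsFinLocFree ((Scheme.Modules.pushforward f).obj
      (CohB1.tensorMod F (CohB1.tensorPow L ((r : ℕ) + d * q)))) := by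
    intro r
    obtain ⟨P, G, hG, hGfl, ⟨e⟩⟩ := exists_flat_model f ι hif eι _ (hFr r)
      (EulerConst10.isFlatOver_tF f (Ample.isInvertible_tensorPow hL.1 r) hfl)
    obtain ⟨Q, hQ⟩ := exists_goodAll_twists P.f₀ P.ample hG hGfl
    refine ⟨Q, fun q hq => ?_⟩
    obtain ⟨hM, hMfl, hgood⟩ := hQ q hq
    haveI := SemiPrufer.qcoh_of_isFP hM
    haveI : Coh.IsQCoh (CohB1.tensorMod G (CohB1.tensorPow P.L₀ q)) := SemiPrufer.qcoh_of_isFP hM
    have hpush : FlatMod.IsFinLocFree ((Scheme.Modules.pushforward P.f₀).obj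
        (CohB1.tensorMod G (CohB1.tensorPow P.L₀ q))) := fun y => by
      obtain ⟨U, m, hyU, hφ, -⟩ := BCCrit.exists_free_near0 hM hMfl y (hgood y)
      exact ⟨U, m, hyU, hφ⟩
    haveI := BCCrit.isIso_bc0_of_goodAll hM hMfl ⊤ (fun s _ => hgood s) P.pb (fun _ => trivial)
    obtain ⟨e₁⟩ := P.nonempty_pullback_twist e q
    obtain ⟨e₂⟩ := nonempty_twist_split F L r d q
    exact isFinLocFree_congr (asIso (CohBC.bc0 P.f₀ P.g f P.g' P.pb.w _) ≪≫
      (Scheme.Modules.pushforward f).mapIso (e₁ ≪≫ e₂.symm)) (OX.isFinLocFree_pullback P.g hpush)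
  choose Q hQ using hr
  refine ⟨d * (Finset.univ.sup Q + 1), fun m hm => ?_⟩
  have h2 : Finset.univ.sup Q + 1 ≤ m / d := (Nat.le_div_iff_mul_le hd).2 (by rwa [mul_comm])
  have h3 := hQ ⟨m % d, Nat.mod_lt m hd⟩ (m / d)
    ((Finset.le_sup (f := Q) (Finset.mem_univ (⟨m % d, Nat.mod_lt m hd⟩ : Fin d))).trans (by omega))
  simpa only [Nat.mod_add_div m d] using h3

end GrothLib.HilbDesc10
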