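import Groth.Agent.Lib.HilbDesc10.Affine

/-!
# Restricting a relatively ample module to an affine open of the base
-/

set_option autoImplicit false
set_option linter.all false
set_option backward.isDefEq.respectTransparency false

universe u

open CategoryTheory Limits AlgebraicGeometry Opposite TopologicalSpace

noncomputable section

namespace GrothLib.HilbDesc10

variable {X S : Scheme.{u}}

theorem isAmple_pullback_fst (f : X ⟶ S) [QuasiCompact f] {L : X.Modules} (hL : RelAmple.IsRelAmple f L)
    {V : S.Opens} (hV : IsAffineOpen V) :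
    CohB1.IsAmple ((Scheme.Modules.pullback (pullback.fst f hV.fromSpec)).obj L) := by
  let U := f ⁻¹ᵁ V
  have hr : Set.range (pullback.fst f hV.fromSpec) = Set.range U.ι := by
    rw [Scheme.Pullback.range_fst, hV.range_fromSpec, Scheme.Opens.range_ι]
    rfl
  let e := IsOpenImmersion.isoOfRangeEq (pullback.fst f hV.fromSpec) U.ι hr
  haveI : CompactSpace (U : Scheme.{u}) := isCompact_iff_compactSpace.mp (f.isCompact_preimage hV.isCompact)
  exact (Ample.isAmple_iff_of_iso ((Scheme.Modules.pullbackComp e.hom U.ι).app L ≪≫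
      (Scheme.Modules.pullbackCongr (IsOpenImmersion.isoOfRangeEq_hom_fac _ _ hr)).app L)).1
    (Ample.isAmple_pullback_of_isAffineHom e.hom ((Ample.isAmple_restrict_iff U.ι L).1 (hL.2 ⟨V, hV⟩)))

/-- The twists on the affine piece. -/
theorem fibEuler_twist_baseChange {X' S' : Scheme.{u}} {f : X ⟶ S} {g : S' ⟶ S} {f' : X' ⟶ S'} {g' : X' ⟶ X}
    (hc : IsPullback g' f' f g) [IsProper f] {F : X.Modules} (hF : CohB1.IsFP F) {L : X.Modules}
    (hL : PicF.IsInvertible L) (n : ℕ) (s' : S') :
    EulerConst10.fibEuler f' (CohB1.tensorMod ((Scheme.Modules.pullback g').obj F)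
        (CohB1.tensorPow ((Scheme.Modules.pullback g').obj L) n)) s' =
      EulerConst10.fibEuler f (CohB1.tensorMod F (CohB1.tensorPow L n)) (g s') :=
  EulerConst10.fibEuler_tensorPows_baseChange (t := 1) hc hF (fun _ => L) (fun _ => hL) (fun _ => n) s'

end GrothLib.HilbDesc10
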