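import Groth.Agent.Lib.ModDesc.Approx
import Groth.Agent.Lib.LimDesc.Closed
import Groth.Agent.Lib.RegSheaf.BaseChange
import Groth.Agent.Lib.Ample.ProjAmple
import Groth.Agent.Lib.Ample.RelAmple
import Groth.Agent.Lib.Chow.Prod
import Groth.Agent.Lib.SemiPrufer.SheafFP
import Groth.Agent.Lib.DiagGrp.KernelFP

/-!
# Descending a polarised scheme with finitely many modules to a Noetherian stage
-/

set_option autoImplicit false
set_option linter.all false
set_option backward.isDefEq.respectTransparency false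
set_option maxHeartbeats 1000000

universe u

open CategoryTheory Limits AlgebraicGeometry Opposite TopologicalSpace

noncomputable section

namespace GrothLib.HilbDesc10

open GrothLib.LimDescend (Model fgDiagram fgCone isLimitFgCone)
open GrothLib.LimDesc (diag)

/-- `O(1)` is ample on projective space over an affine scheme. -/
theorem isAmple_twistOver (n : ℕ) (S : Scheme.{u}) [IsAffine S] :
    CohB1.IsAmple (Twist.twistOver n S 1) := by
  haveI : IsProper (KRR.pr n S) := Chow.isProper_toBase n S
  haveI : CompactSpace (KRR.PY n S) := QuasiCompact.compactSpace_of_compactSpace (KRR.pr n S)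
  exact Ample.isAmple_of_isRelVeryAmplePn (KRR.pr n S) ⟨n, 𝟙 _, inferInstance, Category.id_comp _,
    ⟨((Scheme.Modules.pullbackId (KRR.PY n S)).app _).symm⟩⟩

variable {I : Type u} [SmallCategory I] [IsCofiltered I] {D : I ⥤ Scheme.{u}} {c : Cone D} (hc : IsLimit c)
  [∀ (i j : I) (f : i ⟶ j), IsAffineHom (D.map f)] [∀ i, IsAffine (D.obj i)]
  [∀ i, IsLocallyNoetherian (D.obj i)] {X : Scheme.{u}} {f : X ⟶ c.pt}

include hc in
/-- A closed immersion into projective space over the limit comes from a stage. -/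
theorem exists_stage_embedding [LocallyOfFinitePresentation f] [IsProper f] {n : ℕ}
    (ι : X ⟶ KRR.PY n c.pt) [IsClosedImmersion ι] (hι : ι ≫ KRR.pr n c.pt = f) :
    ∃ (j : I) (M : Model D c f j) (L₀ : M.obj.Modules), IsProper M.hom ∧ CohB1.IsAmple L₀ ∧
      Nonempty ((Scheme.Modules.pullback M.proj).obj L₀ ≅
        (Scheme.Modules.pullback ι).obj (Twist.twistOver n c.pt 1)) := by
  obtain ⟨i₀⟩ := IsCofiltered.nonempty (C := I)
  let P₀ : Scheme.{u} := KRR.PY n (D.obj i₀)
  let p₀ : P₀ ⟶ D.obj i₀ := KRR.pr n (D.obj i₀)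
  let ψ : KRR.PY n c.pt ⟶ P₀ := KRR.projSpaceMap n (c.π.app i₀)
  have hψ : IsPullback ψ (KRR.pr n c.pt) p₀ (c.π.app i₀) := RegSheaf.isPullback_projSpaceMap (c.π.app i₀)
  haveI : IsProper p₀ := Chow.isProper_toBase n _
  haveI : IsProper (KRR.pr n c.pt) := Chow.isProper_toBase n _
  haveI : CompactSpace P₀ := QuasiCompact.compactSpace_of_compactSpace p₀
  haveI : QuasiSeparatedSpace P₀ := quasiSeparatedSpace_of_quasiSeparated p₀
  let E := diag D i₀ p₀
  let d := LimDesc.cone D i₀ p₀ hψ
  let hd : IsLimit d := LimDesc.isLimitCone D i₀ p₀ hψ hc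
  haveI : ∀ (j k : Over i₀) (φ : j ⟶ k), IsAffineHom (E.map φ) :=
    fun j k φ => LimDesc.isAffineHom_map D i₀ p₀ φ
  haveI : ∀ j, CompactSpace (E.obj j) := fun j => LimDesc.compactSpace_obj D i₀ p₀ j
  haveI : ∀ j : Over i₀, IsProper (pullback.snd p₀ (D.map j.hom)) := fun j => inferInstance
  haveI : ∀ j, QuasiSeparatedSpace (E.obj j) := fun j =>
    quasiSeparatedSpace_of_quasiSeparated (pullback.snd p₀ (D.map j.hom))
  haveI : LocallyOfFiniteType (KRR.pr n c.pt) := inferInstance
  haveI : LocallyOfFinitePresentation ι := by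
    haveI : LocallyOfFinitePresentation (ι ≫ KRR.pr n c.pt) := hι ▸ ‹_›
    exact DiagGrp.lfp_of_comp_of_lft ι (KRR.pr n c.pt) inferInstance inferInstance
  obtain ⟨j, ⟨N⟩⟩ := LimDescend.exists_model E d hd (X := X) ι
  haveI : CompactSpace N.obj := QuasiCompact.compactSpace_of_compactSpace N.hom
  haveI : QuasiSeparatedSpace N.obj := quasiSeparatedSpace_of_quasiSeparated N.hom
  haveI : LocallyOfFiniteType N.hom := inferInstance
  obtain ⟨k, hk⟩ := LimDesc.exists_isClosedImmersion_snd E hd N.hom N.isPullback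
  let N' := N.map E d k.hom
  haveI : IsClosedImmersion N'.hom := hk
  let q := pullback.snd p₀ (D.map k.left.hom)
  have hsq : IsPullback (d.π.app k.left) (KRR.pr n c.pt) q (c.π.app k.left.left) := by
    refine IsPullback.of_right ?_ (pullback.lift_snd _ _ _) (IsPullback.of_hasPullback p₀ (D.map k.left.hom))
    rw [show d.π.app k.left ≫ pullback.fst p₀ (D.map k.left.hom) = ψ from pullback.lift_fst _ _ _, c.w]
    exact hψ
  haveI : IsProper (N'.hom ≫ q) := inferInstance
  haveI : LocallyOfFinitePresentation q := MorphismProperty.pullback_snd (P := @LocallyOfFinitePresentation) _ _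
    (haveI : IsLocallyNoetherian (D.obj i₀) := inferInstance; inferInstance)
  have hM : IsPullback N'.proj f (N'.hom ≫ q) (c.π.app k.left.left) := by
    have h := N'.isPullback.paste_vert hsq
    rwa [hι] at h
  let M : Model D c f k.left.left :=
    { obj := N'.obj
      hom := N'.hom ≫ q
      proj := N'.proj
      lfp := inferInstance
      qc := inferInstance
      qs := inferInstance
      isPullback := hM }
  let u : N'.obj ⟶ P₀ := N'.hom ≫ pullback.fst p₀ (D.map k.left.hom)
  haveI : IsAffineHom (pullback.fst p₀ (D.map k.left.hom)) := inferInstance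
  haveI : IsAffineHom u := inferInstance
  refine ⟨k.left.left, M, (Scheme.Modules.pullback u).obj (Twist.twistOver n (D.obj i₀) 1), ‹_›,
    Ample.isAmple_pullback_of_isAffineHom u (isAmple_twistOver n (D.obj i₀)), ⟨?_⟩⟩
  have hu : N'.proj ≫ u = ι ≫ ψ := by
    show N'.proj ≫ N'.hom ≫ pullback.fst p₀ (D.map k.left.hom) = ι ≫ ψ
    rw [← Category.assoc, N'.isPullback.w, Category.assoc]
    congr 1
    exact pullback.lift_fst _ _ _
  let fst := pullback.fst (CohB1.ProjSpace.toSpec n (ULift.{u} ℤ)) (specULiftZIsTerminal.from (D.obj i₀))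
  have hfst : ψ ≫ fst =
      pullback.fst (CohB1.ProjSpace.toSpec n (ULift.{u} ℤ)) (specULiftZIsTerminal.from c.pt) := by
    show KRR.projSpaceMap n (c.π.app i₀) ≫ _ = _
    rw [KRR.projSpaceMap, pullback.lift_fst, Category.comp_id]
    rfl
  exact (Scheme.Modules.pullbackComp N'.proj u).app _ ≪≫ (Scheme.Modules.pullbackCongr hu).app _ ≪≫
    ((Scheme.Modules.pullbackComp ι ψ).app _).symm ≪≫
    (Scheme.Modules.pullback ι).mapIso ((Scheme.Modules.pullbackComp ψ fst).app _ ≪≫
      (Scheme.Modules.pullbackCongr hfst).app _)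

include hc in
/-- One more module descends to a later stage. -/
theorem exists_stage_module {i : I} (M : Model D c f i) [IsProper M.hom] (F : X.Modules) [F.IsQuasicoherent]
    (hF : CohB1.IsFP F) :
    ∃ (j : I) (φ : j ⟶ i) (G : (M.map D c φ).obj.Modules), Coh.IsCoh G ∧
      Nonempty ((Scheme.Modules.pullback (M.map D c φ).proj).obj G ≅ F) := by
  haveI : CompactSpace M.obj := QuasiCompact.compactSpace_of_compactSpace M.hom
  haveI : ∀ j : Over i, IsLocallyNoetherian ((diag D i M.hom).obj j) := fun j =>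
    ModDesc.isLocallyNoetherian_model (M.map D c j.hom)
  haveI : ∀ (j k : Over i) (φ : j ⟶ k), IsAffineHom ((diag D i M.hom).map φ) :=
    fun j k φ => LimDesc.isAffineHom_map D i M.hom φ
  let top : Over i := Over.mk (𝟙 i)
  haveI : CompactSpace ((diag D i M.hom).obj top) := LimDesc.compactSpace_obj D i M.hom top
  haveI : (LimDesc.cone D i M.hom M.isPullback).pt = X := rfl
  obtain ⟨j, -, G, hG, he⟩ := ModDesc.exists_descend (diag D i M.hom) (LimDesc.cone D i M.hom M.isPullback)
    (LimDesc.isLimitCone D i M.hom M.isPullback hc) top F hF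
  exact ⟨j.left, j.hom, G, hG, he⟩

include hc in
/-- **Finitely many modules and the polarisation descend to one stage.** -/
theorem exists_stage_modules [LocallyOfFinitePresentation f] [IsProper f] {n : ℕ}
    (ι : X ⟶ KRR.PY n c.pt) [IsClosedImmersion ι] (hι : ι ≫ KRR.pr n c.pt = f)
    (m : ℕ) (F : Fin m → X.Modules) (hF : ∀ r, CohB1.IsFP (F r)) :
    ∃ (j : I) (M : Model D c f j) (L₀ : M.obj.Modules) (G : Fin m → M.obj.Modules),
      IsProper M.hom ∧ CohB1.IsAmple L₀ ∧
      Nonempty ((Scheme.Modules.pullback M.proj).obj L₀ ≅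
        (Scheme.Modules.pullback ι).obj (Twist.twistOver n c.pt 1)) ∧
      (∀ r, Coh.IsCoh (G r)) ∧ ∀ r, Nonempty ((Scheme.Modules.pullback M.proj).obj (G r) ≅ F r) := by
  induction m with
  | zero =>
    obtain ⟨j, M, L₀, h1, h2, h3⟩ := exists_stage_embedding hc ι hι
    exact ⟨j, M, L₀, fun r => r.elim0, h1, h2, h3, fun r => r.elim0, fun r => r.elim0⟩
  | succ m ih =>
    obtain ⟨i, M, L₀, G, hp, hL, ⟨eL⟩, hG, he⟩ := ih (fun r => F r.castSucc) (fun r => hF _)
    haveI := hp
    haveI := SemiPrufer.qcoh_of_isFP (hF (Fin.last m))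
    obtain ⟨j, φ, Gm, hGm, hem⟩ := exists_stage_module hc M (F (Fin.last m)) (hF _)
    let M' := M.map D c φ
    let t : M'.obj ⟶ M.obj := pullback.fst M.hom (D.map φ)
    haveI : IsAffineHom t := MorphismProperty.pullback_fst (P := @IsAffineHom) M.hom (D.map φ) inferInstance
    haveI : IsProper M'.hom := inferInstanceAs (IsProper (pullback.snd M.hom (D.map φ)))
    refine ⟨j, M', (Scheme.Modules.pullback t).obj L₀,
      Fin.lastCases Gm fun r => (Scheme.Modules.pullback t).obj (G r), ‹_›,
      Ample.isAmple_pullback_of_isAffineHom t hL, ModDesc.exists_pullback_iso M φ L₀ _ eL,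
      fun r => ?_, fun r => ?_⟩
    · refine Fin.lastCases ?_ (fun r => ?_) r
      · simp only [Fin.lastCases_last]; exact hGm
      · simp only [Fin.lastCases_castSucc]; exact ModDesc.isCoh_pullback t _ (hG r)
    · refine Fin.lastCases ?_ (fun r => ?_) r
      · simp only [Fin.lastCases_last]; exact hem
      · simp only [Fin.lastCases_castSucc]
        obtain ⟨e⟩ := he r
        exact ModDesc.exists_pullback_iso M φ (G r) _ e

include hc in
/-- Flatness of one module holds at a later stage. -/
theorem exists_stage_flat {i : I} (M : Model D c f i) [IsProper M.hom] (G : M.obj.Modules) (hG : Coh.IsCoh G)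
    (hfl : FlatMod.IsFlatOver f ((Scheme.Modules.pullback M.proj).obj G)) :
    ∃ (j : I) (φ : j ⟶ i), FlatMod.IsFlatOver (M.map D c φ).hom
      ((Scheme.Modules.pullback (pullback.fst M.hom (D.map φ))).obj G) := by
  haveI := hG.1
  haveI : IsLocallyNoetherian M.obj := ModDesc.isLocallyNoetherian_model M
  haveI : CompactSpace M.obj := QuasiCompact.compactSpace_of_compactSpace M.hom
  haveI : QuasiSeparatedSpace M.obj := quasiSeparatedSpace_of_quasiSeparated M.hom
  obtain ⟨l, hl⟩ := FlatLimit.exists_stage_flatOver D hc M.hom (𝟙 (D.obj i)) ModDesc.isPullback_id M.isPullback G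
    (QCoh.isFinitePresentation_of_isFiniteType G hG.2) hfl
  let P := ModDesc.postId M
  refine ⟨l.left, l.hom, ?_⟩
  have h3 : FlatMod.IsFlatOver (P.map D c l.hom).hom
      ((Scheme.Modules.pullback (pullback.fst P.hom (D.map l.hom))).obj G) := by
    rw [← ModDesc.mapNat_comp_snd M l]
    haveI : IsIso (pullback.snd (𝟙 (D.obj i)) (D.map l.hom)) := inferInstance
    exact fun x => FlatDesc.isFlatOverAt_comp _ _ _ x (hl x)
  have e : P.hom = M.hom := Category.comp_id _
  have key : ∀ (h : M.obj ⟶ D.obj i), h = M.hom →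
      FlatMod.IsFlatOver (pullback.snd h (D.map l.hom)) ((Scheme.Modules.pullback (pullback.fst h (D.map l.hom))).obj G) →
      FlatMod.IsFlatOver (pullback.snd M.hom (D.map l.hom))
        ((Scheme.Modules.pullback (pullback.fst M.hom (D.map l.hom))).obj G) := by
    rintro _ rfl h
    exact h
  exact key _ e h3

end GrothLib.HilbDesc10
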