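import Groth.Agent.Lib.HilbDesc10.Stage
import Groth.Agent.Lib.EulerConst10.BaseChange
import Groth.Agent.Lib.Snapper.Positive
import Groth.Agent.Lib.FlatFP.InjCokerSheaf
import Groth.Agent.S2330

/-!
# Polarised Noetherian models over an affine base
-/

set_option autoImplicit false
set_option linter.all false
set_option backward.isDefEq.respectTransparency false
set_option maxHeartbeats 1000000

universe u

open CategoryTheory Limits AlgebraicGeometry Opposite TopologicalSpace

noncomputable section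

namespace GrothLib.HilbDesc10

open GrothLib.LimDescend (Model fgDiagram fgCone isLimitFgCone)
open GrothLib.Euler (tF)

variable {A : Type u} [CommRing A] {X : Scheme.{u}}

/-- A proper model over a Noetherian ring, with an ample module. -/
structure PModel (f : X ⟶ Spec (CommRingCat.of A)) (L : X.Modules) where
  R : Type u
  [ring : CommRing R]
  [noeth : IsNoetherianRing R]
  X₀ : Scheme.{u}
  f₀ : X₀ ⟶ Spec (CommRingCat.of R)
  [proper : IsProper f₀]
  g : Spec (CommRingCat.of A) ⟶ Spec (CommRingCat.of R)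
  g' : X ⟶ X₀
  pb : IsPullback g' f f₀ g
  L₀ : X₀.Modules
  ample : CohB1.IsAmple L₀
  eL : (Scheme.Modules.pullback g').obj L₀ ≅ L

attribute [instance] PModel.ring PModel.noeth PModel.proper

/-- A power of a relatively ample module over an affine base is `O(1)` on a closed subscheme of projective space. -/
theorem exists_embedding (f : X ⟶ Spec (CommRingCat.of A)) [IsProper f] [LocallyOfFinitePresentation f]
    {L : X.Modules} (hL : CohB1.IsAmple L) :
    ∃ (d n : ℕ) (ι : X ⟶ KRR.PY n (Spec (CommRingCat.of A))) (_ : IsClosedImmersion ι), 0 < d ∧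
      ι ≫ KRR.pr n (Spec (CommRingCat.of A)) = f ∧
      Nonempty (CohB1.tensorPow L d ≅
        (Scheme.Modules.pullback ι).obj (Twist.twistOver n (Spec (CommRingCat.of A)) 1)) := by
  obtain ⟨n₀, h⟩ := (Groth.Agent.S2330.result f L hL.1).2 hL
  obtain ⟨n, ι, hi, hif, e⟩ := h (n₀ + 1) (Nat.le_succ _)
  haveI : IsImmersion ι := hi
  haveI : IsProper (KRR.pr n (Spec (CommRingCat.of A))) := Chow.isProper_toBase n _
  haveI : IsProper ι := by
    haveI : IsProper (ι ≫ KRR.pr n (Spec (CommRingCat.of A))) := by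
      show IsProper (ι ≫ pullback.snd _ _)
      rw [hif]; infer_instance
    exact IsProper.of_comp ι (KRR.pr n (Spec (CommRingCat.of A)))
  haveI : IsClosedImmersion ι := IsClosedImmersion.of_isPreimmersion ι ι.isClosedMap.isClosed_range
  exact ⟨n₀ + 1, n, ι, ‹_›, Nat.succ_pos _, hif, e⟩

variable (f : X ⟶ Spec (CommRingCat.of A)) [IsProper f] [LocallyOfFinitePresentation f]

instance isLocallyNoetherian_fg (i : (LimDescend.FgSub A)ᵒᵖ) : IsLocallyNoetherian ((fgDiagram A).obj i) := by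
  haveI : Algebra.FiniteType ℤ i.unop.1 := (Subalgebra.fg_iff_finiteType i.unop.1).1 i.unop.2
  haveI : IsNoetherianRing i.unop.1 := Algebra.FiniteType.isNoetherianRing ℤ _
  show IsLocallyNoetherian (Spec (CommRingCat.of i.unop.1))
  infer_instance

/-- The model of `f` given by a stage. -/
def pModelOfStage {L : X.Modules} {j : (LimDescend.FgSub A)ᵒᵖ} (M : Model (fgDiagram A) (fgCone A) f j)
    (hp : IsProper M.hom) (L₀ : M.obj.Modules) (hL : CohB1.IsAmple L₀)
    (e : (Scheme.Modules.pullback M.proj).obj L₀ ≅ L) : PModel f L :=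
  haveI : Algebra.FiniteType ℤ j.unop.1 := (Subalgebra.fg_iff_finiteType j.unop.1).1 j.unop.2
  haveI : IsNoetherianRing j.unop.1 := Algebra.FiniteType.isNoetherianRing ℤ _
  { R := j.unop.1
    X₀ := M.obj
    f₀ := M.hom
    proper := hp
    g := (fgCone A).π.app j
    g' := M.proj
    pb := M.isPullback
    L₀ := L₀
    ample := hL
    eL := e }

/-- Finitely many modules descend with the polarisation. -/
theorem exists_model {L : X.Modules} {n : ℕ} (ι : X ⟶ KRR.PY n (Spec (CommRingCat.of A))) [IsClosedImmersion ι]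
    (hι : ι ≫ KRR.pr n (Spec (CommRingCat.of A)) = f)
    (eι : L ≅ (Scheme.Modules.pullback ι).obj (Twist.twistOver n (Spec (CommRingCat.of A)) 1))
    (m : ℕ) (F : Fin m → X.Modules) (hF : ∀ r, CohB1.IsFP (F r)) :
    ∃ (P : PModel f L) (G : Fin m → P.X₀.Modules), (∀ r, Coh.IsCoh (G r)) ∧
      ∀ r, Nonempty ((Scheme.Modules.pullback P.g').obj (G r) ≅ F r) := by
  obtain ⟨j, M, L₀, G, hp, hL₀, ⟨eL⟩, hG, he⟩ := exists_stage_modules (isLimitFgCone A) (f := f) ι hι m F hF
  exact ⟨pModelOfStage f M hp L₀ hL₀ (eL ≪≫ eι.symm), G, hG, he⟩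

/-- A flat module descends to a flat one with the polarisation. -/
theorem exists_flat_model {L : X.Modules} {n : ℕ} (ι : X ⟶ KRR.PY n (Spec (CommRingCat.of A))) [IsClosedImmersion ι]
    (hι : ι ≫ KRR.pr n (Spec (CommRingCat.of A)) = f)
    (eι : L ≅ (Scheme.Modules.pullback ι).obj (Twist.twistOver n (Spec (CommRingCat.of A)) 1))
    (F : X.Modules) (hF : CohB1.IsFP F) (hfl : FlatMod.IsFlatOver f F) :
    ∃ (P : PModel f L) (G : P.X₀.Modules), Coh.IsCoh G ∧ FlatMod.IsFlatOver P.f₀ G ∧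
      Nonempty ((Scheme.Modules.pullback P.g').obj G ≅ F) := by
  obtain ⟨i, M, L₀, G, hp, hL₀, ⟨eL⟩, hG, he⟩ :=
    exists_stage_modules (isLimitFgCone A) (f := f) ι hι 1 (fun _ => F) (fun _ => hF)
  obtain ⟨e⟩ := he 0
  haveI := hp
  obtain ⟨j, φ, hfl₀⟩ := exists_stage_flat (isLimitFgCone A) M (G 0) (hG 0)
    (fun x => (FlatFP.isFlatOverAt_congr f e x).2 (hfl x))
  let t : (M.map (fgDiagram A) (fgCone A) φ).obj ⟶ M.obj := pullback.fst M.hom ((fgDiagram A).map φ)
  haveI : IsAffineHom t :=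
    MorphismProperty.pullback_fst (P := @IsAffineHom) M.hom ((fgDiagram A).map φ) inferInstance
  haveI : CompactSpace M.obj := QuasiCompact.compactSpace_of_compactSpace M.hom
  obtain ⟨eL'⟩ := ModDesc.exists_pullback_iso M φ L₀ _ (eL ≪≫ eι.symm)
  refine ⟨pModelOfStage f (M.map (fgDiagram A) (fgCone A) φ)
    (inferInstanceAs (IsProper (pullback.snd M.hom ((fgDiagram A).map φ))))
    ((Scheme.Modules.pullback t).obj L₀) (Ample.isAmple_pullback_of_isAffineHom t hL₀) eL',
    (Scheme.Modules.pullback t).obj (G 0), ModDesc.isCoh_pullback t _ (hG 0), hfl₀,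
    ModDesc.exists_pullback_iso M φ (G 0) _ e⟩

/-- Powers of isomorphic modules are isomorphic. -/
theorem nonempty_tensorPow_congr {Y : Scheme.{u}} {L L' : Y.Modules} (e : L ≅ L') :
    ∀ q : ℕ, Nonempty (CohB1.tensorPow L q ≅ CohB1.tensorPow L' q)
  | 0 => ⟨Iso.refl _⟩
  | q + 1 => by
    obtain ⟨e'⟩ := nonempty_tensorPow_congr e q
    exact ⟨PicGrp.tensorModIso e' e⟩

/-- The twists of a model pull back to the twists. -/
theorem PModel.nonempty_pullback_twist {L : X.Modules} {f : X ⟶ Spec (CommRingCat.of A)} (P : PModel f L)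
    {G : P.X₀.Modules} {F : X.Modules} (e : (Scheme.Modules.pullback P.g').obj G ≅ F) (q : ℕ) :
    Nonempty ((Scheme.Modules.pullback P.g').obj (CohB1.tensorMod G (CohB1.tensorPow P.L₀ q)) ≅
      CohB1.tensorMod F (CohB1.tensorPow L q)) := by
  obtain ⟨e₁⟩ := EulerConst10.nonempty_pullback_tensorPows (t := 1) P.g' G (fun _ => P.L₀) (fun _ => P.ample.1)
    (fun _ => q)
  obtain ⟨e₂⟩ := nonempty_tensorPow_congr P.eL q
  exact ⟨e₁ ≪≫ PicGrp.tensorModIso e e₂⟩

/-- `F ⊗ L^(r + d q) ≅ (F ⊗ L^r) ⊗ (L^d)^q`. -/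
theorem nonempty_twist_split (F L : X.Modules) (r d q : ℕ) :
    Nonempty (CohB1.tensorMod F (CohB1.tensorPow L (r + d * q)) ≅
      CohB1.tensorMod (CohB1.tensorMod F (CohB1.tensorPow L r)) (CohB1.tensorPow (CohB1.tensorPow L d) q)) := by
  obtain ⟨e₁⟩ := Snapper.nonempty_tensorPow_add L r (d * q)
  obtain ⟨e₂⟩ := Snapper.nonempty_tensorPow_mul L d q
  exact ⟨((DCoh.tensorBi (X := X)).obj F).mapIso e₁ ≪≫
    (OX.tensorAssoc F (CohB1.tensorPow L r) (CohB1.tensorPow L (d * q))).symm ≪≫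
    ((DCoh.tensorBi (X := X)).obj _).mapIso e₂.symm⟩

end GrothLib.HilbDesc10
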