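import Groth.Agent.Lib.HilbDesc10.Semi
import Groth.Agent.Lib.HilbDesc10.Local

/-!
# Eventual lower bounds on the Hilbert function are closed conditions
-/

set_option autoImplicit false
set_option linter.all false
set_option backward.isDefEq.respectTransparency false
set_option maxHeartbeats 1000000

universe u

open CategoryTheory Limits AlgebraicGeometry Opposite TopologicalSpace

noncomputable section

namespace GrothLib.HilbDesc10

open GrothLib.EulerConst10 (fibEuler)

theorem isClosed_eventually_le_affine {A : Type u} [CommRing A] {X : Scheme.{u}}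
    (f : X ⟶ Spec (CommRingCat.of A)) [IsProper f] [LocallyOfFinitePresentation f] {L : X.Modules}
    (hL : CohB1.IsAmple L) {F : X.Modules} (hF : CohB1.IsFP F) (φ : ℕ → ℚ) :
    IsClosed {p : Spec (CommRingCat.of A) | ∃ N : ℕ, ∀ n, N ≤ n →
      φ n ≤ (fibEuler f (CohB1.tensorMod F (CohB1.tensorPow L n)) p : ℚ)} := by
  obtain ⟨d, n, ι, hι, hd, hif, ⟨eι⟩⟩ := exists_embedding f hL
  obtain ⟨P, G, hG, he⟩ := exists_model f ι hif eι d (fun r => CohB1.tensorMod F (CohB1.tensorPow L r))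
    (fun r => EulerConst10.isFP_tensorPows hF (t := 1) (fun _ => L) (fun _ => hL.1) (fun _ => (r : ℕ)))
  have key : ∀ (p : Spec (CommRingCat.of A)) (r : Fin d) (q : ℕ),
      fibEuler f (CohB1.tensorMod F (CohB1.tensorPow L (r + d * q))) p =
        fibEuler P.f₀ (CohB1.tensorMod (G r) (CohB1.tensorPow P.L₀ q)) (P.g p) := by
    intro p r q
    obtain ⟨e⟩ := he r
    obtain ⟨e₁⟩ := P.nonempty_pullback_twist e q
    obtain ⟨e₂⟩ := nonempty_twist_split F L r d q
    haveI := (hG r).1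
    haveI : IsLocallyNoetherian P.X₀ := LocallyOfFiniteType.isLocallyNoetherian P.f₀
    haveI : (CohB1.tensorMod (G r) (CohB1.tensorPow P.L₀ q)).IsQuasicoherent := SemiPrufer.qcoh_of_isFP (EulerConst10.isFP_tensorPows
      (QCoh.isFinitePresentation_of_isFiniteType (G r) (hG r).2) (t := 1) (fun _ => P.L₀) (fun _ => P.ample.1)
      (fun _ => q))
    rw [EulerConst10.fibEuler_congr f (e₂ ≪≫ e₁.symm) p]
    exact EulerConst10.fibEuler_baseChange P.pb (CohB1.tensorMod (G r) (CohB1.tensorPow P.L₀ q)) p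
  have hset : {p : Spec (CommRingCat.of A) | ∃ N : ℕ, ∀ n, N ≤ n →
      φ n ≤ (fibEuler f (CohB1.tensorMod F (CohB1.tensorPow L n)) p : ℚ)} =
      ⋂ r : Fin d, P.g ⁻¹' {p₀ | ∃ Q : ℕ, ∀ q, Q ≤ q →
        φ ((r : ℕ) + d * q) ≤ (fibEuler P.f₀ (CohB1.tensorMod (G r) (CohB1.tensorPow P.L₀ q)) p₀ : ℚ)} := by
    ext p
    simp only [Set.mem_iInter, Set.mem_preimage, Set.mem_setOf_eq]
    constructor
    · rintro ⟨N, hN⟩ r
      refine ⟨N, fun q hq => ?_⟩
      rw [← key p r q]
      exact hN _ (hq.trans (le_trans (Nat.le_mul_of_pos_left q hd) (Nat.le_add_left _ _)))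
    · intro h
      choose Q hQ using h
      refine ⟨d * (Finset.univ.sup Q + 1), fun m hm => ?_⟩
      have h2 : Finset.univ.sup Q + 1 ≤ m / d := (Nat.le_div_iff_mul_le hd).2 (by rwa [mul_comm])
      have h3 := hQ ⟨m % d, Nat.mod_lt m hd⟩ (m / d)
        ((Finset.le_sup (f := Q) (Finset.mem_univ (⟨m % d, Nat.mod_lt m hd⟩ : Fin d))).trans (by omega))
      rw [← key] at h3
      simpa only [Nat.mod_add_div m d] using h3
  rw [hset]
  exact isClosed_iInter fun r => (isClosed_eventually_le P.f₀ P.ample (hG r) fun q => φ ((r : ℕ) + d * q)).preimage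
    P.g.continuous

theorem isClosed_eventually_le_global {X S : Scheme.{u}} (f : X ⟶ S) [IsProper f]
    [LocallyOfFinitePresentation f] {L : X.Modules} (hL : RelAmple.IsRelAmple f L) {F : X.Modules}
    (hF : CohB1.IsFP F) (φ : ℕ → ℚ) :
    IsClosed {s : S | ∃ N : ℕ, ∀ n, N ≤ n →
      φ n ≤ (fibEuler f (CohB1.tensorMod F (CohB1.tensorPow L n)) s : ℚ)} := by
  rw [← isOpen_compl_iff, isOpen_iff_forall_mem_open]
  intro s hs
  obtain ⟨V, hV, hsV, -⟩ := exists_isAffineOpen_mem_and_subset (x := s) (U := (⊤ : S.Opens)) trivial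
  let j := hV.fromSpec
  have hsq := IsPullback.of_hasPullback f j
  haveI : LocallyOfFinitePresentation (pullback.snd f j) :=
    MorphismProperty.pullback_snd (P := @LocallyOfFinitePresentation) f j inferInstance
  have hcl := isClosed_eventually_le_affine (A := Γ(S, V)) (pullback.snd f j) (isAmple_pullback_fst f hL hV)
    (FittSheaf.isFP_pullback (pullback.fst f j) F hF) φ
  have hLinv : PicF.IsInvertible L := Ample.isInvertible_of_isRelAmple hL
  replace hcl : IsClosed {p : Spec Γ(S, V) | ∃ N : ℕ, ∀ n, N ≤ n →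
      φ n ≤ (fibEuler f (CohB1.tensorMod F (CohB1.tensorPow L n)) (j p) : ℚ)} := by
    refine Eq.mp (congrArg IsClosed (Set.ext fun p => ?_)) hcl
    have e : ∀ n, (fibEuler (pullback.snd f j) (CohB1.tensorMod ((Scheme.Modules.pullback (pullback.fst f j)).obj F)
        (CohB1.tensorPow ((Scheme.Modules.pullback (pullback.fst f j)).obj L) n)) p : ℚ) =
        (fibEuler f (CohB1.tensorMod F (CohB1.tensorPow L n)) (j p) : ℚ) := fun n =>
      congrArg _ (fibEuler_twist_baseChange hsq hF hLinv n p)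
    exact exists_congr fun N => forall₂_congr fun n _ => iff_of_eq (congrArg (φ n ≤ ·) (e n))
  refine ⟨j '' {p | ∃ N : ℕ, ∀ n, N ≤ n →
      φ n ≤ (fibEuler f (CohB1.tensorMod F (CohB1.tensorPow L n)) (j p) : ℚ)}ᶜ, ?_,
    j.isOpenEmbedding.isOpenMap _ hcl.isOpen_compl, ?_⟩
  · rintro _ ⟨p, hp, rfl⟩
    exact hp
  · obtain ⟨p, rfl⟩ : s ∈ Set.range j := by rw [hV.range_fromSpec]; exact hsV
    exact ⟨p, hs, rfl⟩

end GrothLib.HilbDesc10
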