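import Groth.Agent.Lib.EulerConst10.Finite
import Groth.Agent.Lib.HilbFlat10.Criteria
import Groth.Agent.Lib.FlatCx.Semi
import Mathlib.RingTheory.Spectrum.Prime.ConstructibleSet

/-!
# Eventual lower bounds on Hilbert functions are closed conditions
-/

set_option autoImplicit false
set_option linter.all false
set_option backward.isDefEq.respectTransparency false
set_option maxHeartbeats 1000000

universe u

open CategoryTheory Limits AlgebraicGeometry Opposite TopologicalSpace TensorProduct Topology

noncomputable section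

namespace GrothLib.HilbDesc10

open GrothLib.EulerConst10 (fibEuler)

variable {R : Type u} [CommRing R] [IsNoetherianRing R] {X : Scheme.{u}}

theorem isConstructible_inter_open {K L : (Spec (CommRingCat.of R)).IdealSheafData}
    (W : Set (Spec (CommRingCat.of R))) (hW : IsOpen W) :
    IsConstructible (((K.support : Set (Spec (CommRingCat.of R))) ∩ (L.support : Set _)ᶜ) ∩ W) := by
  have h : ∀ U : Set (Spec (CommRingCat.of R)), IsOpen U → IsConstructible U := fun U hU =>
    (show IsRetrocompact U from fun V _ _ => NoetherianSpace.isCompact _).isConstructible hU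
  refine (IsConstructible.inter ?_ ?_).inter (h W hW)
  · exact (h _ K.support.isClosed.isOpen_compl).of_compl
  · exact h _ L.support.isClosed.isOpen_compl

theorem exists_stratum_point {K L : (Spec (CommRingCat.of R)).IdealSheafData} {v : Spec (CommRingCat.of R)}
    (h1 : v ∈ (K.support : Set _)) (h2 : v ∉ (L.support : Set _)) :
    ∃ z, FlatStrat.stratumι K L z = v := by
  have hr : v ∈ Set.range K.subschemeι := by
    rw [Scheme.IdealSheafData.range_subschemeι]; exact h1
  obtain ⟨w, hw⟩ := hr
  refine ⟨⟨w, ?_⟩, hw⟩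
  show K.subschemeι w ∈ L.support.compl
  rw [hw]; exact h2

/-- **The eventual lower bound on the Hilbert function of a model is a closed condition.** -/
theorem isClosed_eventually_le (f : X ⟶ Spec (CommRingCat.of R)) [IsProper f] {L : X.Modules}
    (hL : CohB1.IsAmple L) {G : X.Modules} (hG : Coh.IsCoh G) (φ : ℕ → ℚ) :
    IsClosed {p : Spec (CommRingCat.of R) | ∃ Q : ℕ, ∀ q, Q ≤ q →
      φ q ≤ (fibEuler f (CohB1.tensorMod G (CohB1.tensorPow L q)) p : ℚ)} := by
  haveI : IsLocallyNoetherian X := LocallyOfFiniteType.isLocallyNoetherian f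
  haveI := hG.1
  have hGfp : CohB1.IsFP G := QCoh.isFinitePresentation_of_isFiniteType G hG.2
  let T : Set (Spec (CommRingCat.of R)) := {p | ∃ Q : ℕ, ∀ q, Q ≤ q →
    φ q ≤ (fibEuler f (CohB1.tensorMod G (CohB1.tensorPow L q)) p : ℚ)}
  refine PrimeSpectrum.isClosed_of_stableUnderSpecialization_of_isConstructible (s := T) ?_ ?_
  · -- stability under specialization
    intro p p' hpp' ⟨Q, hQ⟩
    haveI : CompactSpace X := QuasiCompact.compactSpace_of_compactSpace f
    obtain ⟨c, ⟨e⟩⟩ := Ample.exists_cocycle hL.1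
    have hc : c.IsAmp := ((c.isAmple_iff e).1 hL).2
    obtain ⟨N, hN⟩ := HilbFlat10.exists_euler_eq_finrank f c hc hG p
    obtain ⟨N', hN'⟩ := HilbFlat10.exists_euler_eq_finrank f c hc hG p'
    refine ⟨max Q (max N N'), fun q hq => ?_⟩
    obtain ⟨eq⟩ := HilbFlat10.nonempty_modTwist_iso c e G q
    have h₁ := hQ q (le_of_max_le_left hq)
    rw [← EulerConst10.fibEuler_congr f eq, hN q (by omega)] at h₁
    rw [← EulerConst10.fibEuler_congr f eq, hN' q (by omega)]
    haveI := HilbFlat10.finite_sections f c hG q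
    obtain ⟨U, hU, hUo, hpU⟩ := eventually_nhds_iff.1
      (FlatCx.eventually_finrank_fiber_le (BCCoh.secA f (c.modTwist G q) ⊤) p')
    refine h₁.trans ?_
    exact_mod_cast hU p (hpp'.mem_open hUo hpU)
  · -- constructibility
    obtain ⟨m, I, hmono, hlast, hfirst, hfg, hstep⟩ := FlatStrat.exists_stratification f G hGfp
    have hj : ∀ j : Fin m, IsConstructible (T ∩ ((((I j.castSucc).support : Set _)) ∩ ((I j.succ).support : Set _)ᶜ)) := by
      intro j
      let ι := FlatStrat.stratumι (I j.castSucc) (I j.succ)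
      let f₂ := pullback.snd f ι
      let G₂ := (Scheme.Modules.pullback (pullback.fst f ι)).obj G
      let L₂ : Fin 1 → (pullback f ι).Modules := fun _ => (Scheme.Modules.pullback (pullback.fst f ι)).obj L
      have key : ∀ z, ∀ q : ℕ, fibEuler f₂ (Curv2.tensorPows G₂ 1 L₂ fun _ => q) z =
          fibEuler f (CohB1.tensorMod G (CohB1.tensorPow L q)) (ι z) := fun z q =>
        EulerConst10.fibEuler_tensorPows_baseChange (IsPullback.of_hasPullback f ι) hGfp (fun _ => L)
          (fun _ => hL.1) (fun _ => q) z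
      have hopen : IsOpen (ι ⁻¹' T) := by
        rw [isOpen_iff_forall_mem_open]
        intro z hz
        obtain ⟨U, hzU, hU⟩ := EulerConst10.exists_nhd_forall_euler_eq f₂ G₂
          (FittSheaf.isFP_pullback _ G hGfp) (hstep j).2.2.2 L₂
          (fun _ => Ample.isInvertible_pullback _ hL.1) z
        refine ⟨U, fun z' hz' => ?_, U.2, hzU⟩
        obtain ⟨Q, hQ⟩ := hz
        refine ⟨Q, fun q hq => ?_⟩
        show φ q ≤ (fibEuler f _ (ι z') : ℚ)
        rw [← key z' q, hU z' hz' (fun _ => q), key z q]
        exact hQ q hq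
      obtain ⟨W, hW, hWeq⟩ := ι.isEmbedding.isInducing.isOpen_iff.1 hopen
      refine Eq.mpr (congrArg IsConstructible (Set.ext fun v => ?_))
        (isConstructible_inter_open (K := I j.castSucc) (L := I j.succ) W hW)
      constructor
      · rintro ⟨hvT, hv1, hv2⟩
        obtain ⟨z, rfl⟩ := exists_stratum_point hv1 hv2
        exact ⟨⟨hv1, hv2⟩, (Set.ext_iff.1 hWeq z).2 hvT⟩
      · rintro ⟨⟨hv1, hv2⟩, hvW⟩
        obtain ⟨z, rfl⟩ := exists_stratum_point hv1 hv2
        exact ⟨(Set.ext_iff.1 hWeq z).1 hvW, hv1, hv2⟩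
    refine Eq.mpr (congrArg IsConstructible (Set.ext fun v => ?_)) (IsConstructible.iUnion hj)
    simp only [Set.mem_iUnion]
    refine ⟨fun hv => ?_, fun ⟨_, hv, _⟩ => hv⟩
    by_contra h
    push Not at h
    have hall : ∀ j : Fin (m + 1), v ∈ (I j).support := fun j => by
      induction j using Fin.induction with
      | zero => rw [← SetLike.mem_coe, hfirst]; trivial
      | succ j ih => exact by_contra fun h' => h j ⟨hv, ih, h'⟩
    have := hall (Fin.last m)
    rw [hlast, Scheme.IdealSheafData.support_top, ← SetLike.mem_coe, Closeds.coe_bot] at this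
    exact this

end GrothLib.HilbDesc10
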